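import Groth.Prelude.Def_GrTwist
import Groth.Prelude.Def_Pic
import Groth.Prelude.Def_Coh
import Groth.Agent.QCoh.Local
import Mathlib.Algebra.Order.Group.Unbundled.Int

/-!
# `O(m)` (gradings by additive subgroups) is trivial where a degree `m` fraction is invertible (after `TwistX.Triv`)
-/

universe u

open CategoryTheory AlgebraicGeometry TopologicalSpace Opposite TopCat

namespace Groth.Agent.GrTwistX

variable {A σ : Type u} [CommRing A] [SetLike σ A] [AddSubgroupClass σ A]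
  {𝒜 : ℕ → σ} [GradedRing 𝒜]

/-- An element not vanishing on an open. -/
abbrev NonVan (s : A) (U : Opens (ProjectiveSpectrum.top 𝒜)) : Prop :=
  ∀ x : U, s ∉ x.1.asHomogeneousIdeal

theorem mul_notMem {x : ProjectiveSpectrum 𝒜} {a b : A} (ha : a ∉ x.asHomogeneousIdeal)
    (hb : b ∉ x.asHomogeneousIdeal) : a * b ∉ x.asHomogeneousIdeal :=
  fun h => (x.isPrime.mem_or_mem h).elim ha hb

/-- An invertible fraction of degree `m` on an open. -/
structure UnitFrac (m : ℤ) (U : Opens (ProjectiveSpectrum.top 𝒜)) where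
  i : ℕ
  j : ℕ
  num : A
  den : A
  num_mem : num ∈ 𝒜 i
  den_mem : den ∈ 𝒜 j
  deg : (i : ℤ) = j + m
  num_ne : NonVan (𝒜 := 𝒜) num U
  den_ne : NonVan (𝒜 := 𝒜) den U

variable {m : ℤ} {U : Opens (ProjectiveSpectrum.top 𝒜)}

/-- Restriction of a fraction. -/
def UnitFrac.res (φ : UnitFrac (𝒜 := 𝒜) m U) {V : Opens (ProjectiveSpectrum.top 𝒜)} (h : V ≤ U) :
    UnitFrac (𝒜 := 𝒜) m V :=
  { φ with num_ne := fun x => φ.num_ne ⟨x.1, h x.2⟩, den_ne := fun x => φ.den_ne ⟨x.1, h x.2⟩ }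

/-- The section `num / den` of `O(m)`. -/
noncomputable def fracSect (φ : UnitFrac (𝒜 := 𝒜) m U) : GrTwist.sectN (𝒜 := 𝒜) m (op U) :=
  ⟨fun x => ⟨Localization.mk φ.num ⟨φ.den, φ.den_ne x⟩,
    Submodule.subset_span ⟨φ.i, φ.j, ⟨_, φ.num_mem⟩, ⟨_, φ.den_mem⟩, φ.den_ne x, φ.deg, rfl⟩⟩,
   fun x => ⟨U, x.2, 𝟙 _, φ.i, φ.j, ⟨_, φ.num_mem⟩, ⟨_, φ.den_mem⟩,
    fun y => φ.den_ne y, Or.inl φ.deg, fun _ => rfl⟩⟩

/-- Multiplication by `num / den`. -/
noncomputable def trivMap (φ : UnitFrac (𝒜 := 𝒜) m U) :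
    GrTwist.O (𝒜 := 𝒜) (op U) →ₗ[GrTwist.O (𝒜 := 𝒜) (op U)] GrTwist.sectN (𝒜 := 𝒜) m (op U) :=
  LinearMap.toSpanSingleton _ _ (fracSect φ)

theorem trivMap_apply (φ : UnitFrac (𝒜 := 𝒜) m U) (c : GrTwist.O (𝒜 := 𝒜) (op U)) (x : U) :
    ((trivMap φ c).1 x).1 = (c.1 x).val * Localization.mk φ.num ⟨φ.den, φ.den_ne x⟩ :=
  GrTwist.coe_smul_val m x.1 (c.1 x) ((fracSect φ).1 x)

theorem isUnit_frac (φ : UnitFrac (𝒜 := 𝒜) m U) (x : U) :
    IsUnit (Localization.mk φ.num ⟨φ.den, φ.den_ne x⟩ : GrTwist.Loc 𝒜 x.1) := by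
  refine IsUnit.of_mul_eq_one (Localization.mk φ.den ⟨φ.num, φ.num_ne x⟩) ?_
  rw [Localization.mk_mul, ← Localization.mk_one, Localization.mk_eq_mk_iff, Localization.r_iff_exists]
  exact ⟨1, by simp [mul_comm]⟩

theorem mk_mul_frac (φ : UnitFrac (𝒜 := 𝒜) m U) (x : U) (a t : A) (ht : t ∉ x.1.asHomogeneousIdeal) :
    (Localization.mk (a * φ.den) ⟨t * φ.num, mul_notMem ht (φ.num_ne x)⟩ : GrTwist.Loc 𝒜 x.1) *
      Localization.mk φ.num ⟨φ.den, φ.den_ne x⟩ = Localization.mk a ⟨t, ht⟩ := by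
  rw [Localization.mk_mul, Localization.mk_eq_mk_iff, Localization.r_iff_exists]
  exact ⟨1, by simp; ring⟩

theorem trivMap_bijective (φ : UnitFrac (𝒜 := 𝒜) m U) : Function.Bijective (trivMap φ) := by
  refine ⟨fun c c' h => ?_, fun f => ?_⟩
  · apply Subtype.ext
    funext x
    apply HomogeneousLocalization.val_injective
    have h' := congrArg (fun g => (g.1 x).1) h
    simp only [trivMap_apply] at h'
    exact (isUnit_frac φ x).mul_left_inj.1 h'
  · have key : ∀ x : U, ∃ (V : Opens (ProjectiveSpectrum.top 𝒜)) (_ : x.1 ∈ V) (hV : V ≤ U)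
        (i : ℕ) (r t : 𝒜 i) (nin : ∀ y : V, t.1 ∉ y.1.asHomogeneousIdeal), ∀ y : V,
          (f.1 ⟨y.1, hV y.2⟩).1 = (HomogeneousLocalization.mk (x := y.1.asHomogeneousIdeal.toIdeal.primeCompl)
              ⟨i, r, t, nin y⟩).val * Localization.mk φ.num ⟨φ.den, φ.den_ne ⟨y.1, hV y.2⟩⟩ := by
      intro x
      obtain ⟨V, hxV, iV, p, q, ⟨a, ha⟩, ⟨t, ht⟩, nin, hdeg, w⟩ := f.2 x
      have hV : V ≤ U := leOfHom iV
      have nin' : ∀ y : V, t * φ.num ∉ y.1.asHomogeneousIdeal := fun y =>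
        mul_notMem (nin y) (φ.num_ne ⟨y.1, hV y.2⟩)
      have hmem : a * φ.den ∈ 𝒜 (q + φ.i) := by
        rcases hdeg with h | h
        · rw [show q + φ.i = p + φ.j by have := φ.deg; omega]
          exact SetLike.mul_mem_graded ha φ.den_mem
        · rw [show a * φ.den = 0 by simp only at h; rw [h, zero_mul]]
          exact zero_mem _
      refine ⟨V, hxV, hV, q + φ.i, ⟨_, hmem⟩, ⟨_, SetLike.mul_mem_graded ht φ.num_mem⟩, nin', fun y => ?_⟩
      exact (w y).trans (mk_mul_frac φ ⟨y.1, hV y.2⟩ a t (nin y)).symm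
    choose V hxV hV i r t nin hw using key
    let c : ∀ x : U, GrTwist.A0 𝒜 x.1 := fun x =>
      HomogeneousLocalization.mk ⟨i x, r x, t x, nin x ⟨x.1, hxV x⟩⟩
    refine ⟨⟨c, fun x => ⟨V x, hxV x, homOfLE (hV x), i x, r x, t x, nin x, fun y => ?_⟩⟩, ?_⟩
    · apply HomogeneousLocalization.val_injective
      refine (isUnit_frac φ ⟨y.1, hV x y.2⟩).mul_left_inj.1 ?_
      exact ((hw ⟨y.1, hV x y.2⟩ ⟨y.1, hxV _⟩).symm.trans (hw x y))
    · apply Subtype.ext
      funext x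
      apply Subtype.ext
      rw [trivMap_apply]
      exact (hw x ⟨x.1, hxV x⟩).symm

/-- The global section `num / den` of the restriction. -/
noncomputable def fracSections (U : (Proj 𝒜).Opens) (φ : UnitFrac (𝒜 := 𝒜) m U) :
    (SheafOfModules.sections ((GrTwist.twist 𝒜 m).restrict U.ι)) :=
  ⟨fun V => fracSect (φ.res (U.ι_image_le V.unop)), fun {_ _} _ => rfl⟩

/-- The trivialization morphism. -/
noncomputable def fracTriv (U : (Proj 𝒜).Opens) (φ : UnitFrac (𝒜 := 𝒜) m U) :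
    Coh.structureModule U.toScheme ⟶ (GrTwist.twist 𝒜 m).restrict U.ι :=
  (SheafOfModules.unitHomEquiv _).symm (fracSections U φ)

theorem isIso_fracTriv (U : (Proj 𝒜).Opens) (φ : UnitFrac (𝒜 := 𝒜) m U) : IsIso (fracTriv U φ) := by
  refine Scheme.Modules.Hom.isIso_iff_isIso_app.2 fun V => ?_
  refine (ConcreteCategory.isIso_iff_bijective _).2 ?_
  have h : ((fracTriv U φ).app V : _ → _) = fun r => trivMap (φ.res (U.ι_image_le V)) r := by
    funext r
    refine Eq.trans (b := trivMap (φ.res (U.ι_image_le V)) ((U.ι.appIso V).inv.hom r)) rfl ?_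
    rw [Scheme.Opens.ι_appIso]
    rfl
  rw [h]
  exact trivMap_bijective _

/-- `O(m)` is trivial where a fraction of degree `m` is invertible. -/
theorem nonempty_iso_restrict (U : (Proj 𝒜).Opens) (φ : UnitFrac (𝒜 := 𝒜) m U) :
    Nonempty ((GrTwist.twist 𝒜 m).restrict U.ι ≅ Coh.structureModule U.toScheme) :=
  ⟨(@asIso _ _ _ _ _ (isIso_fracTriv U φ)).symm⟩

theorem notMem_pow {x : ProjectiveSpectrum 𝒜} {s : A} (h : s ∉ x.asHomogeneousIdeal) (q : ℕ) :
    s ^ q ∉ x.asHomogeneousIdeal :=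
  fun hh => h (x.isPrime.mem_of_pow_mem q hh)

/-- Powers of a fraction of degree `d`. -/
noncomputable def powFrac {a b : A} {i j d : ℕ} (ha : a ∈ 𝒜 i) (hb : b ∈ 𝒜 j) (hij : i = j + d) (n : ℤ)
    (hna : NonVan (𝒜 := 𝒜) a U) (hnb : NonVan (𝒜 := 𝒜) b U) : UnitFrac (𝒜 := 𝒜) (n * d) U where
  i := n.toNat * i + (-n).toNat * j
  j := n.toNat * j + (-n).toNat * i
  num := a ^ n.toNat * b ^ (-n).toNat
  den := b ^ n.toNat * a ^ (-n).toNat
  num_mem := SetLike.mul_mem_graded (by simpa using SetLike.pow_mem_graded n.toNat ha)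
    (by simpa using SetLike.pow_mem_graded (-n).toNat hb)
  den_mem := SetLike.mul_mem_graded (by simpa using SetLike.pow_mem_graded n.toNat hb)
    (by simpa using SetLike.pow_mem_graded (-n).toNat ha)
  deg := by
    have h1 : ((n.toNat : ℤ)) - ((-n).toNat : ℤ) = n := by omega
    have h2 : (i : ℤ) = j + d := by omega
    push_cast
    linear_combination ((n.toNat : ℤ) - ((-n).toNat : ℤ)) * h2 + (d : ℤ) * h1
  num_ne x := mul_notMem (notMem_pow (hna x) _) (notMem_pow (hnb x) _)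
  den_ne x := mul_notMem (notMem_pow (hnb x) _) (notMem_pow (hna x) _)

/-- `O(n d)` is trivial on `D₊(f)` for `f` of degree `d`. -/
theorem nonempty_iso_basicOpen {f : A} {d : ℕ} (hf : f ∈ 𝒜 d) (n : ℤ) :
    Nonempty ((GrTwist.twist 𝒜 (n * d)).restrict (Proj.basicOpen 𝒜 f).ι ≅
      Coh.structureModule (Proj.basicOpen 𝒜 f).toScheme) :=
  nonempty_iso_restrict _ (powFrac hf SetLike.GradedOne.one_mem (zero_add d).symm n (fun x => x.2)
    (fun x h => x.1.isPrime.ne_top ((Ideal.eq_top_iff_one _).mpr h)))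

end Groth.Agent.GrTwistX
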