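import Groth.Agent.GrTwistX.Triv
import Groth.Agent.AmpleX.Proj
import Groth.Agent.AmpleX.Rel
import Mathlib.RingTheory.Localization.AtPrime.Basic

/-!
`O(d)` is ample on `Proj` when finitely many basic opens of degree `d` cover.
-/

universe u

open CategoryTheory AlgebraicGeometry TopologicalSpace Opposite
open scoped HomogeneousIdeal

set_option backward.isDefEq.respectTransparency false
set_option backward.isDefEq.respectTransparency.types false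

namespace Groth.Agent.GrTwistX

open Groth.Agent

variable {A σ : Type u} [CommRing A] [SetLike σ A] [AddSubgroupClass σ A] {𝒜 : ℕ → σ} [GradedRing 𝒜]

/-- `1` as a denominator. -/
def one' (x : ProjectiveSpectrum 𝒜) : x.asHomogeneousIdeal.toIdeal.primeCompl :=
  ⟨1, fun hh => x.isPrime.ne_top ((Ideal.eq_top_iff_one _).mpr hh)⟩

/-- The section `a / 1` of `O(i)`. -/
noncomputable def sec {d : ℕ} {f : A} (hf : f ∈ 𝒜 d) : Γ(GrTwist.twist 𝒜 (d : ℤ), (⊤ : (Proj 𝒜).Opens)) :=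
  GrTwist.globalOf 𝒜 ⟨f, hf⟩

/-- `a / 1` as a unit fraction where `a` does not vanish. -/
noncomputable def oneFrac {d : ℕ} {f : A} (hf : f ∈ 𝒜 d) (V : (Proj 𝒜).Opens)
    (h : ∀ x ∈ V, f ∉ x.asHomogeneousIdeal) : UnitFrac (𝒜 := 𝒜) (d : ℤ) V where
  i := d
  j := 0
  num := f
  den := 1
  num_mem := hf
  den_mem := SetLike.GradedOne.one_mem
  deg := by simp
  num_ne x := h x.1 x.2
  den_ne x := fun hh => x.1.isPrime.ne_top ((Ideal.eq_top_iff_one _).mpr hh)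

lemma isFrame_sec {d : ℕ} {f : A} (hf : f ∈ 𝒜 d) :
    InvX.IsFrame (AModX.res (GrTwist.twist 𝒜 (d : ℤ)) (le_top : Proj.basicOpen 𝒜 f ≤ ⊤) (sec hf)) :=
  fun V hV => trivMap_bijective (oneFrac hf V fun x hx => hV hx)

lemma locus_sec' {d : ℕ} {f : A} (hf : f ∈ 𝒜 d)
    (hcov : ∀ y : ProjectiveSpectrum 𝒜, ∃ g ∈ 𝒜 d, g ∉ y.asHomogeneousIdeal) :
    CohB1.genLocus (GrTwist.twist 𝒜 (d : ℤ)) (InvX.ofSect (sec hf)) = Proj.basicOpen 𝒜 f := by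
  rw [AmpleX.genLocus_eq_locus, InvX.one_ofSect]
  refine le_antisymm (fun x hx => ?_) (AmpleX.le_locus _ le_top (isFrame_sec hf))
  obtain ⟨g, hg, hgx⟩ := hcov x
  obtain ⟨V, hV, hxV, hfr⟩ := AmpleX.mem_locus.1 hx
  let W : (Proj 𝒜).Opens := V ⊓ Proj.basicOpen 𝒜 g
  obtain ⟨r, hr⟩ := (hfr W inf_le_left).2 (AModX.res _ (le_top : W ≤ ⊤) (sec hg))
  have h := congrArg (fun t : GrTwist.sectN (𝒜 := 𝒜) (d : ℤ) (op W) => (t.1 ⟨x, hxV, hgx⟩).1) hr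
  change _ = Localization.mk g _ at h
  have h' : ((show GrTwist.O (𝒜 := 𝒜) (op W) from r).1 ⟨x, hxV, hgx⟩).val *
      (Localization.mk f (one' x) : GrTwist.Loc 𝒜 x) =
      Localization.mk g (one' x) :=
    ((GrTwist.coe_smul_val _ x _ _).symm.trans h)
  have hu : IsUnit (Localization.mk g (one' x) :
      GrTwist.Loc 𝒜 x) := by
    rw [Localization.mk_eq_mk']
    exact (IsLocalization.AtPrime.isUnit_mk'_iff _ x.asHomogeneousIdeal.toIdeal g _).2 hgx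
  rw [← h'] at hu
  have hu' := isUnit_of_mul_isUnit_right hu
  rw [Localization.mk_eq_mk'] at hu'
  exact (IsLocalization.AtPrime.isUnit_mk'_iff _ x.asHomogeneousIdeal.toIdeal f _).1 hu'

lemma locus_sec {d : ℕ} {f : A} (hf : f ∈ 𝒜 d) (s : Finset A) (hs : ∀ g ∈ s, g ∈ 𝒜 d)
    (hcov : ∀ y : ProjectiveSpectrum 𝒜, ∃ g ∈ s, g ∉ y.asHomogeneousIdeal) :
    CohB1.genLocus (GrTwist.twist 𝒜 (d : ℤ)) (InvX.ofSect (sec hf)) = Proj.basicOpen 𝒜 f :=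
  locus_sec' hf fun y => let ⟨g, hg, hgy⟩ := hcov y; ⟨g, hs g hg, hgy⟩

/-- A finite union of basic opens of degree `d` is ample for `O(d)`. -/
theorem isAmple_twist_restrict {d : ℕ} (hd : 0 < d) (hcov : ∀ y : ProjectiveSpectrum 𝒜, ∃ g ∈ 𝒜 d, g ∉ y.asHomogeneousIdeal)
    (T : Finset A) (hT : ∀ g ∈ T, g ∈ 𝒜 d) (W : (Proj 𝒜).Opens)
    (hW : ∀ y : ProjectiveSpectrum 𝒜, y ∈ W ↔ ∃ g ∈ T, g ∉ y.asHomogeneousIdeal) :
    CohB1.IsAmple ((GrTwist.twist 𝒜 (d : ℤ)).restrict W.ι) := by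
  have hle : ∀ g : T, Proj.basicOpen 𝒜 (g : A) ≤ W := fun g y hy => (hW y).2 ⟨g, g.2, hy⟩
  have hL : PicF.IsInvertible (GrTwist.twist 𝒜 (d : ℤ)) := fun y => by
    obtain ⟨g, hg, hgy⟩ := hcov y
    refine ⟨Proj.basicOpen 𝒜 g, hgy, ?_⟩
    have := nonempty_iso_basicOpen hg 1
    rwa [one_mul] at this
  refine AmpleX.isAmple_iff.2 ⟨AmpleX.isInvertible_restrict _ hL, ?_, fun x => ?_⟩
  · refine isCompact_iff_compactSpace.1 ?_
    have : (W : Set (Proj 𝒜)) = ⋃ g : T, (Proj.basicOpen 𝒜 (g : A) : Set (Proj 𝒜)) :=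
      Set.ext fun y => ⟨fun hy => by
        obtain ⟨g, hg, hgy⟩ := (hW y).1 hy
        exact Set.mem_iUnion.2 ⟨⟨g, hg⟩, hgy⟩, fun hy => by
        obtain ⟨g, hgy⟩ := Set.mem_iUnion.1 hy
        exact hle g hgy⟩
    rw [this]
    exact isCompact_iUnion fun g => (Proj.isAffineOpen_basicOpen 𝒜 _ (hT g g.2) hd).isCompact
  obtain ⟨g, hg, hgx⟩ := (hW x.1).1 x.2
  let a : Γ(GrTwist.twist 𝒜 (d : ℤ), W.ι ''ᵁ ⊤) := AModX.res _ le_top (sec (hT g hg))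
  let b : Γ((GrTwist.twist 𝒜 (d : ℤ)).restrict W.ι, ⊤) := a
  refine ⟨1, one_pos, InvX.powHom (InvX.ofSect b) 1, ?_⟩
  rw [InvX.genLocus_powHom (AmpleX.isInvertible_restrict _ hL) _ 0, AmpleX.genLocus_eq_locus, InvX.one_ofSect]
  have h1 : W.ι ''ᵁ AmpleX.locus b = Proj.basicOpen 𝒜 g := by
    show W.ι ''ᵁ AmpleX.locus (M := (GrTwist.twist 𝒜 (d : ℤ)).restrict W.ι) (U := ⊤) a = _
    rw [AmpleX.image_locus, AmpleX.locus_res]
    have h2 := locus_sec' (hT g hg) hcov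
    rw [AmpleX.genLocus_eq_locus, InvX.one_ofSect] at h2
    rw [h2, Scheme.Hom.image_top_eq_opensRange, Scheme.Opens.opensRange_ι]
    exact inf_eq_left.2 (hle ⟨g, hg⟩)
  refine ⟨?_, ?_⟩
  · have : W.ι x ∈ W.ι ''ᵁ AmpleX.locus b := h1 ▸ hgx
    obtain ⟨x', hx', e⟩ := this
    exact Subtype.ext e ▸ hx'
  · rw [← W.ι.isAffineOpen_iff_of_isOpenImmersion, h1]
    exact Proj.isAffineOpen_basicOpen 𝒜 _ (hT g hg) hd

theorem isAmple_twist {d : ℕ} (hd : 0 < d) (s : Finset A) (hs : ∀ g ∈ s, g ∈ 𝒜 d)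
    (hcov : ∀ y : ProjectiveSpectrum 𝒜, ∃ g ∈ s, g ∉ y.asHomogeneousIdeal) :
    CohB1.IsAmple (GrTwist.twist 𝒜 (d : ℤ)) := by
  have haff : ∀ g : s, IsAffineOpen (Proj.basicOpen 𝒜 (g : A)) := fun g =>
    Proj.isAffineOpen_basicOpen 𝒜 _ (hs g g.2) hd
  have hL : PicF.IsInvertible (GrTwist.twist 𝒜 (d : ℤ)) := fun y => by
    obtain ⟨g, hg, hgy⟩ := hcov y
    refine ⟨Proj.basicOpen 𝒜 g, hgy, ?_⟩
    have := nonempty_iso_basicOpen (hs g hg) 1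
    rwa [one_mul] at this
  refine AmpleX.isAmple_iff.2 ⟨hL, ⟨?_⟩, fun x => ?_⟩
  · have : (Set.univ : Set (Proj 𝒜)) = ⋃ g : s, (Proj.basicOpen 𝒜 (g : A) : Set (Proj 𝒜)) :=
      (Set.eq_univ_of_forall fun y => by
        obtain ⟨g, hg, hgy⟩ := hcov y
        exact Set.mem_iUnion.2 ⟨⟨g, hg⟩, hgy⟩).symm
    rw [this]
    exact isCompact_iUnion fun g => (haff g).isCompact
  · obtain ⟨g, hg, hgx⟩ := hcov x
    refine ⟨1, one_pos, InvX.powHom (InvX.ofSect (sec (hs g hg))) 1, ?_⟩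
    rw [InvX.genLocus_powHom hL _ 0, locus_sec (hs g hg) s hs hcov]
    exact ⟨hgx, haff ⟨g, hg⟩⟩

end Groth.Agent.GrTwistX
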